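import Groth.Prelude.Def_EtShriek2
/-!
Composition with an étale morphism is continuous between small étale sites.
-/

set_option autoImplicit false
set_option backward.isDefEq.respectTransparency false
set_option backward.isDefEq.respectTransparency.types false

universe u

open CategoryTheory CategoryTheory.Limits AlgebraicGeometry Opposite

namespace Groth.Agent.EtJCont

theorem jCont {U X : Scheme.{u}} (j : U ⟶ X) [hj : AlgebraicGeometry.Etale j] : EtShriek.JCont j := by
  refine Functor.isContinuous_of_coverPreserving ?_ (EtShriek.coverPreserving_compEtale j)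
  constructor
  intro ℱ Z T x hx Y₁ Y₂ W f₁ f₂ g₁ g₂ hg₁ hg₂ he
  have hle : EtCoh.etaleMP ((f₁.left ≫ Y₁.hom) ≫ j) := by
    rw [Category.assoc]
    exact (MorphismProperty.Over.w f₁).symm ▸ W.prop
  let W' : U.Etale := MorphismProperty.Over.mk ⊤ (f₁.left ≫ Y₁.hom)
    (EtCoh.etaleMP.of_postcomp (W' := EtCoh.etaleMP) (f₁.left ≫ Y₁.hom) j hj hle)
  let e : (EtShriek.compEtale j).obj W' ≅ W := MorphismProperty.Over.isoMk (Iso.refl W.left)
    ((Category.id_comp W.hom).trans ((MorphismProperty.Over.w f₁).symm.trans (Category.assoc _ _ _).symm))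
  have he' : f₁.left ≫ g₁.left = f₂.left ≫ g₂.left := congrArg (fun q => q.left) he
  let a₁ : W' ⟶ Y₁ := MorphismProperty.Over.homMk f₁.left rfl
  let a₂ : W' ⟶ Y₂ := MorphismProperty.Over.homMk f₂.left (by
    show f₂.left ≫ Y₂.hom = f₁.left ≫ Y₁.hom
    rw [← MorphismProperty.Over.w g₁, ← MorphismProperty.Over.w g₂, ← Category.assoc, ← Category.assoc]
    exact congrArg (· ≫ Z.hom) he'.symm)
  have h₁ : (EtShriek.compEtale j).map a₁ = e.hom ≫ f₁ := MorphismProperty.Over.Hom.ext (Category.id_comp _).symm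
  have h₂ : (EtShriek.compEtale j).map a₂ = e.hom ≫ f₂ := MorphismProperty.Over.Hom.ext (Category.id_comp _).symm
  have h := hx a₁ a₂ hg₁ hg₂ (MorphismProperty.Over.Hom.ext he')
  change ℱ.obj.map ((EtShriek.compEtale j).map a₁).op (x g₁ hg₁) =
    ℱ.obj.map ((EtShriek.compEtale j).map a₂).op (x g₂ hg₂) at h
  rw [h₁, h₂, op_comp, op_comp, Functor.map_comp_apply, Functor.map_comp_apply] at h
  exact (ℱ.obj.mapIso e.op).toEquiv.injective h

end Groth.Agent.EtJCont
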